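/-
Primitive groups with a doubly transitive suborbit (helper46, S3617): the statements of the steps.
-/
import Cfsg.Agent.FSet2.Base
import Cfsg.Agent.Perm.PrimBurnside
import Cfsg.Agent.Perm.PrimExtreme
import Cfsg.Agent.S0054

set_option autoImplicit false

open Cfsg Subgroup CL.Grp CL.Even MulAction
open CL.FSet (dr dg)

namespace CL.DT

universe u v

/-- `z` is a non-trivial element of `T` whose centraliser in `T` is the stabiliser of its only fixed point `b` -/
structure Zc {A Ω : Type*} [Group A] [MulAction A Ω] (T : Subgroup A) (b : Ω) (z : A) : Prop where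
  mem : z ∈ T
  ne : z ≠ 1
  iff : ∀ t ∈ T, t • b = b ↔ Commute t z
  fix : ∀ c : Ω, z • c = c → c = b

theorem Zc.self {A Ω : Type*} [Group A] [MulAction A Ω] {T : Subgroup A} {b : Ω} {z : A} (h : Zc T b z) :
    z • b = b := (h.iff z h.mem).2 (Commute.refl z)

theorem Zc.conj {A Ω : Type*} [Group A] [MulAction A Ω] {T : Subgroup A} [hT : T.Normal] {b : Ω} {z : A}
    (h : Zc T b z) (a : A) : Zc T (a • b) (a * z * a⁻¹) where
  mem := hT.conj_mem z h.mem a
  ne := mt conj_eq_one_iff.1 h.ne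
  iff t ht := by
    have e := h.iff (a⁻¹ * t * a) (by simpa using hT.conj_mem t ht a⁻¹)
    rw [mul_smul, mul_smul, inv_smul_eq_iff] at e
    rw [e]
    exact ⟨fun k => by simpa [mul_assoc] using k.map (MulAut.conj a),
      fun k => by simpa [mul_assoc] using k.map (MulAut.conj a⁻¹)⟩
  fix c hc := by
    rw [mul_smul, mul_smul, ← eq_inv_smul_iff] at hc
    exact inv_smul_eq_iff.1 (h.fix _ hc)

/-- the main theorem on F-sets, for every prime `q` -/
def MainP : Prop := ∀ (G : Type u) [Group G] [Finite G] (p q : ℕ) (D : Set (Subgroup G)),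
  CL.FS2.Hyp p q D → IsPGroup q (dr (dg D ⊤))

/-- central elements of a point stabiliser of the non-abelian socle of a doubly transitive group -/
def ZcP : Prop := ∀ (A Ω : Type u) [Group A] [Finite A] [MulAction A Ω] [FaithfulSMul A Ω] [Finite Ω],
  IsMultiplyPretransitive A Ω 2 → ∀ T : Subgroup A, IsMinNormal T → ¬ IsMulCommutative T →
    ∀ (b : Ω) (z : A), z ∈ T → z ≠ 1 → (∀ t ∈ T, t • b = b → Commute t z) → Zc T b z ∧ z * z ≠ 1

/-- the line through two points -/
def LocP : Prop := ∀ (A Ω : Type u) [Group A] [Finite A] [MulAction A Ω] [Finite Ω],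
  IsMultiplyPretransitive A Ω 2 → ∀ (T : Subgroup A) [T.Normal] (b c : Ω) (x : A), Zc T b x → c ≠ b →
    ∃ (q : ℕ) (S : Subgroup A), q.Prime ∧ IsPGroup q S ∧ S ≤ T ∧ (∀ z, Zc T b z → z ∈ 𝒩(S)) ∧
      (∃ u ∈ S, u • b = c) ∧ ∀ u ∈ S, u ^ q • b = b

/-- the central case -/
def CenP : Prop := ∀ (A Ω : Type u) [Group A] [Finite A] [MulAction A Ω] [FaithfulSMul A Ω] [Finite Ω],
  IsMultiplyPretransitive A Ω 2 → ∀ T : Subgroup A, IsMinNormal T → ¬ IsMulCommutative T →
    ∀ (b : Ω) (z : A), z ∈ T → z ≠ 1 → (∀ t ∈ T, t • b = b → Commute t z) → False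

/-- the stabiliser of `a` is doubly transitive on the orbit of `b`, which has at least two points -/
structure Sub2 (G : Type*) {Ω : Type*} [Group G] [MulAction G Ω] (a b : Ω) : Prop where
  ne : b ≠ a
  mv : ∃ g : G, g • a = a ∧ g • b ≠ b
  two : IsMultiplyPretransitive (stabilizer G a) (orbit (stabilizer G a) b) 2

/-- the product case: `L` and `L'` are commuting normal subgroups of `N` over which the stabiliser splits -/
def ProdP : Prop := ∀ (G : Type u) (Ω : Type v) [Group G] [Finite G] [MulAction G Ω] [FaithfulSMul G Ω] [Finite Ω]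
  [IsPreprimitive G Ω] (a b : Ω), Sub2 G a b → ∀ (N L L' : Subgroup G) [N.Normal], L ≤ N → L' ≤ N → N ≤ 𝒩(L) →
    N ≤ 𝒩(L') → L ≤ 𝒞(L') → (∀ l ∈ L, ∀ l' ∈ L', (l * l') • a = a → l • a = a) →
    (∀ h : G, h • a = a → cj h L = L ∨ cj h L ≤ L') → (∃ h : G, h • a = a ∧ cj h L ≤ L') →
    (∃ l ∈ L, l ≠ 1 ∧ l • a = a) → False

/-- the diagonal case: `D = M_a` is a minimal normal subgroup of the stabiliser -/
def DiagP : Prop := ∀ (G : Type u) (Ω : Type v) [Group G] [Finite G] [MulAction G Ω] [FaithfulSMul G Ω] [Finite Ω]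
  [IsPreprimitive G Ω] (a b : Ω), Sub2 G a b → ∀ (M : Subgroup G) [M.Normal],
    IsMinNormal (M.subgroupOf (stabilizer G a)) → ¬ IsMulCommutative (M.subgroupOf (stabilizer G a)) →
    ∀ z ∈ M, z • a = a → z ≠ 1 → (∀ t ∈ M, t • a = a → t • b = b → Commute t z) → False

/-- two minimal normal subgroups -/
def TwoP : Prop := ∀ (G : Type u) (Ω : Type v) [Group G] [Finite G] [MulAction G Ω] [FaithfulSMul G Ω] [Finite Ω]
  [IsPreprimitive G Ω] (a b : Ω), Sub2 G a b → ∀ N : Subgroup G, IsMinNormal N → ¬ IsMulCommutative N → 𝒞(N) = ⊥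

/-- a non-abelian non-regular minimal normal subgroup is simple -/
def PowP : Prop := ∀ (G : Type u) (Ω : Type v) [Group G] [Finite G] [MulAction G Ω] [FaithfulSMul G Ω] [Finite Ω]
  [IsPreprimitive G Ω] (a b : Ω), Sub2 G a b → ∀ N : Subgroup G, IsMinNormal N → ¬ IsMulCommutative N →
    ∀ d ∈ N, d ≠ 1 → d • a = a → IsSimpleGroup N

variable {G Ω : Type*} [Group G] [MulAction G Ω] {a b : Ω}

/-- double transitivity on the suborbit, elementwise -/
theorem Sub2.ex (h : Sub2 G a b) {x y z w : G} (hx : x • a = a) (hy : y • a = a) (hz : z • a = a) (hw : w • a = a)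
    (k1 : x • b ≠ y • b) (k2 : z • b ≠ w • b) : ∃ u : G, u • a = a ∧ u • x • b = z • b ∧ u • y • b = w • b := by
  have k := @is_two_pretransitive_iff (stabilizer G a) (orbit (stabilizer G a) b) _ _
  replace k := fun c d e f => (k.1 h.two : c ≠ d → e ≠ f → _)
  obtain ⟨u, h1, h2⟩ := k
    ⟨x • b, ⟨x, hx⟩, rfl⟩ ⟨y • b, ⟨y, hy⟩, rfl⟩ ⟨z • b, ⟨z, hz⟩, rfl⟩ ⟨w • b, ⟨w, hw⟩, rfl⟩
    (fun e => k1 (congrArg Subtype.val e)) fun e => k2 (congrArg Subtype.val e)
  exact ⟨u, u.2, congrArg Subtype.val h1, congrArg Subtype.val h2⟩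

/-- a conjugation invariant set with a non-trivial element fixing `a` has an element fixing `a` and moving `b` -/
theorem move [Finite G] [FaithfulSMul G Ω] [IsPreprimitive G Ω] (hb : b ≠ a) {S : Set G}
    (hS : ∀ s ∈ S, ∀ g : G, g * s * g⁻¹ ∈ S) {l : G} (hl : l ∈ S) (l1 : l ≠ 1) (la : l • a = a) :
    ∃ s ∈ S, s • a = a ∧ s • b ≠ b := by
  by_contra! k
  obtain ⟨g, rfl⟩ := exists_smul_eq G a b
  have e : {s ∈ S | s • a = a} = {s ∈ S | s • g • a = g • a} := Set.eq_of_subset_of_ncard_le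
    (fun s hs => ⟨hs.1, k s hs.1 hs.2⟩) (Set.ncard_le_ncard_of_injOn (fun s => g⁻¹ * s * g⁻¹⁻¹)
      (fun s hs => ⟨hS s hs.1 _, by rw [inv_inv, mul_smul, mul_smul, hs.2, inv_smul_smul]⟩)
      fun s _ t _ j => by simpa using j)
  have n : ∀ c : Ω, stabilizer G c ≤ 𝒩(closure {s ∈ S | s • c = c}) := fun c x hx =>
    mem_norm_of_cj_le (cj_le_iff.2 ((closure_le _).2 fun s hs => mem_cj.2 (subset_closure ⟨by
      simpa using hS s hs.1 x, by
        rw [inv_inv, mul_smul, mul_smul, inv_smul_eq_iff.2 (mem_stabilizer_iff.1 hx).symm, hs.2]; exact hx⟩)))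
  have t := CL.Perm.eq_top_of_stabilizer_le (b := a) (fun j => l1 (mem_bot.1 (j ▸ mem_stabilizer_iff.2 la))) hb
    (e ▸ n (g • a)) (n a)
  have := normalizer_eq_top_iff.1 t
  exact l1 (mem_bot.1 (CL.Perm.eq_bot_of_normal_of_le_stabilizer (K := closure {s ∈ S | s • a = a}) (a := a)
    ((closure_le _).2 fun s hs => hs.2) ▸ subset_closure ⟨hl, la⟩))

end CL.DT
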