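/-
S3617: the central case from the F-set theorem.
-/
import Cfsg.Agent.DT.Defs
import Cfsg.Agent.FS2.Bridge

set_option autoImplicit false

open Cfsg Subgroup CL.Grp CL.Even MulAction CL.Perm

namespace CL.DT

universe u v

theorem cenP_of_cen (H : FS2.Cen.{u, u}) : CenP.{u} := by
  intro A Ω _ _ _ _ _ h2 T hT nc b z hz z1 k
  rcases burnside_isMinNormal h2 hT with ⟨c, -⟩ | ⟨s, -⟩
  · exact nc c
  · refine z1 (H A Ω h2 T hT.normal s nc ⟨z, hz, ?_⟩ b z hz k)
    by_contra! j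
    exact z1 (eq_of_smul_eq_smul fun d : Ω => by rw [j, one_smul])

theorem cenP_of_main2 (H : FS2.Main2.{u}) : CenP.{u} := cenP_of_cen (FS2.cen_of_main2 H)

theorem cenP_of_main (H : MainP.{u}) : CenP.{u} := cenP_of_main2 fun G _ _ p D h e => e ▸ H G p 2 D h

end CL.DT
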