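/-
Primitive groups with a doubly transitive suborbit (helper46, S3617): the case distinction.
-/
import Cfsg.Agent.DT.Defs
import Cfsg.Agent.FSet2.Main

set_option autoImplicit false

open Cfsg Subgroup CL.Grp CL.Even MulAction

namespace CL.DT

universe u v

theorem mainP : MainP.{u} := fun _ _ _ _ _ _ h => CL.FS2.main h

theorem fin (h1 : TwoP.{u, v}) (h2 : PowP.{u, v}) {G : Type u} {Ω : Type v} [Group G] [Finite G] [MulAction G Ω]
    [FaithfulSMul G Ω] [Finite Ω] (hprim : IsPreprimitive G Ω) (a b : Ω) (hb : b ≠ a)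
    (hc : 2 ≤ Nat.card ↥(orbit ↥(stabilizer G a) b))
    (ht : IsMultiplyPretransitive ↥(stabilizer G a) ↥(orbit ↥(stabilizer G a) b) 2) :
    (∃ T : Subgroup G, T.Normal ∧ IsSimpleGroup ↥T ∧ ¬ IsMulCommutative ↥T ∧ centralizer (T : Set G) = ⊥) ∨
    (∃ N : Subgroup G, N.Normal ∧ N ≠ ⊥ ∧ (∀ M : Subgroup G, M.Normal → M ≠ ⊥ → N ≤ M) ∧
      IsPretransitive ↥N Ω ∧ ∀ ω : Ω, stabilizer ↥N ω = ⊥) := by
  have s : Sub2 G a b := ⟨hb, by
    by_contra! k
    have : Subsingleton (orbit (stabilizer G a) b) := ⟨by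
      rintro ⟨_, g, rfl⟩ ⟨_, l, rfl⟩
      exact Subtype.ext ((k g g.2).trans (k l l.2).symm)⟩
    exact absurd (Finite.card_le_one_iff_subsingleton.2 this) (by omega), ht⟩
  obtain ⟨g, -, g1⟩ := s.mv
  have : Nontrivial G := ⟨g, 1, fun e => g1 (by rw [e, one_smul])⟩
  obtain ⟨N, hN⟩ := exists_isMinNormal G
  have := hN.normal
  have tr : IsPretransitive N Ω := CL.Perm.isPretransitive_of_normal_of_ne_bot hN.ne_bot
  by_cases c : IsMulCommutative N
  · have cm : ∀ m ∈ N, ∀ n ∈ N, m * n = n * m := fun m hm n hn => setLike_mul_comm (s := N) hm hn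
    refine .inr ⟨N, this, hN.ne_bot, fun M _ k => (hN.le_or_commutator_eq_bot M).elim id fun e => ?_, tr,
      CL.Perm.stabilizer_eq_bot_of_commute N N cm⟩
    exact (hN.eq_of_le k fun x hx => CL.Perm.mem_of_commute_of_transitive (α := Ω) N N cm fun m hm =>
      commutatorElement_eq_one_iff_mul_comm.1 (mem_bot.1 (e.le (commutator_mem_commutator hm hx)))).ge
  have e := h1 G Ω a b s N hN c
  by_cases k : ∃ d ∈ N, d ≠ 1 ∧ d • a = a
  · obtain ⟨d, d1, d2, d3⟩ := k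
    exact .inl ⟨N, this, h2 G Ω a b s N hN c d d1 d2 d3, c, e⟩
  refine .inr ⟨N, this, hN.ne_bot, fun M _ j => (hN.le_or_commutator_eq_bot M).elim id fun e1 =>
    absurd (eq_bot_iff.2 ((commutator_eq_bot_iff'.1 e1).trans e.le)) j, tr, fun w => ?_⟩
  obtain ⟨n, rfl⟩ := exists_smul_eq N a w
  refine (eq_bot_iff_forall _).2 fun x hx => by_contra fun x1 => k ⟨(n⁻¹ * x * n : N), Subtype.prop _, fun j => x1 ?_, ?_⟩
  · have := Subtype.ext (a2 := (1 : N)) j
    rwa [mul_assoc, inv_mul_eq_one, eq_comm, mul_eq_right] at this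
  · show (n⁻¹ * x * n) • a = a
    rw [mul_smul, mul_smul, mem_stabilizer_iff.1 hx, inv_smul_smul]

end CL.DT
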