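/-
Primitive groups with a doubly transitive suborbit (S3617): a non-abelian non-regular minimal normal subgroup
is simple.
-/
import Cfsg.Agent.DT.Defs
import Cfsg.Agent.Perm.PrimONS

set_option autoImplicit false

open Cfsg Subgroup CL.Grp CL.Even MulAction CL.Perm

namespace CL.DT

universe u v

namespace PowH

section defs

variable {G T ι : Type*} [Group G] [Group T] {N : Subgroup G}

/-- the elements of `N` supported on `J` -/
def NJ (e : N ≃* (ι → T)) (J : ι → Prop) : Subgroup G where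
  carrier := {g | ∃ n : N, (n : G) = g ∧ ∀ i, ¬ J i → e n i = 1}
  one_mem' := ⟨1, rfl, fun i _ => by rw [map_one, Pi.one_apply]⟩
  mul_mem' := by
    rintro _ _ ⟨n, rfl, hn⟩ ⟨m, rfl, hm⟩
    exact ⟨n * m, rfl, fun i hi => by rw [map_mul, Pi.mul_apply, hn i hi, hm i hi, mul_one]⟩
  inv_mem' := by
    rintro _ ⟨n, rfl, hn⟩
    exact ⟨n⁻¹, rfl, fun i hi => by rw [map_inv, Pi.inv_apply, hn i hi, inv_one]⟩

theorem NJ_le (e : N ≃* (ι → T)) (J : ι → Prop) : NJ e J ≤ N := by
  rintro _ ⟨n, rfl, -⟩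
  exact n.2

theorem NJ_mono (e : N ≃* (ι → T)) {J J' : ι → Prop} (h : ∀ i, J i → J' i) : NJ e J ≤ NJ e J' := by
  rintro _ ⟨n, rfl, hn⟩
  exact ⟨n, rfl, fun i hi => hn i fun k => hi (h i k)⟩

theorem NJ_norm [Finite G] (e : N ≃* (ι → T)) (J : ι → Prop) : N ≤ 𝒩(NJ e J) := fun g hg =>
  mem_norm_of_cj_le (by
    rintro _ ⟨_, ⟨n, rfl, hn⟩, rfl⟩
    exact ⟨⟨g, hg⟩ * n * ⟨g, hg⟩⁻¹, rfl, fun i hi => by
      rw [map_mul, map_mul, map_inv, Pi.mul_apply, Pi.mul_apply, Pi.inv_apply, hn i hi, mul_one, mul_inv_cancel]⟩)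

theorem NJ_cent (e : N ≃* (ι → T)) (J : ι → Prop) : NJ e J ≤ 𝒞(NJ e fun i => ¬ J i) := by
  rintro _ ⟨n, rfl, hn⟩
  refine mem_centralizer_iff.2 ?_
  rintro _ ⟨m, rfl, hm⟩
  have : m * n = n * m := e.injective (funext fun i => by
    rw [map_mul, map_mul, Pi.mul_apply, Pi.mul_apply]
    by_cases hi : J i
    · rw [hm i (not_not.2 hi), mul_one, one_mul]
    · rw [hn i hi, mul_one, one_mul])
  exact congrArg Subtype.val this

open Classical in
/-- the part of `n` supported on `J` -/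
noncomputable def res (e : N ≃* (ι → T)) (J : ι → Prop) (n : N) : N :=
  e.symm fun i => if J i then e n i else 1

theorem res_pos (e : N ≃* (ι → T)) {J : ι → Prop} (n : N) {i : ι} (h : J i) : e (res e J n) i = e n i := by
  rw [res, MulEquiv.apply_symm_apply, if_pos h]

theorem res_neg (e : N ≃* (ι → T)) {J : ι → Prop} (n : N) {i : ι} (h : ¬ J i) : e (res e J n) i = 1 := by
  rw [res, MulEquiv.apply_symm_apply, if_neg h]

end defs

section main

variable {G : Type u} {Ω : Type v} [Group G] [Finite G] [MulAction G Ω] [FaithfulSMul G Ω] [Finite Ω]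
  [IsPreprimitive G Ω] {a b : Ω} {N : Subgroup G} {T ι : Type} [Group T] [Finite ι] [IsSimpleGroup T]

/-- an invariant proper partition of the factors over which the stabiliser splits -/
theorem lemP (hp : ProdP.{u,v}) (hs : Sub2 G a b) (hT : ¬ IsMulCommutative T) [N.Normal] (hN : IsMinNormal N)
    (e : N ≃* (ι → T)) {r : ι → ι → Prop} (hr : Equivalence r)
    (r1 : ∀ (n : N) (i : ι), n • a = a → res e (r i) n • a = a)
    (r2 : ∀ (k : G) (π : Equiv.Perm ι) (θ : ι → T ≃* T), k • a = a →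
      (∀ n i, e (MulAut.conjNormal k n) (π i) = θ i (e n i)) → ∀ i j, r i j ↔ r (π i) (π j))
    (r3 : ∃ i j, ¬ r i j) {d : N} (d1 : d ≠ 1) (da : d • a = a) : False := by
  have : IsPretransitive N Ω := isPretransitive_of_normal_of_ne_bot hN.ne_bot
  obtain ⟨i0, hi0⟩ : ∃ i0, e d i0 ≠ 1 := by
    by_contra! h
    exact d1 (e.injective (by rw [map_one]; exact funext h))
  obtain ⟨j, hj⟩ : ∃ j, ¬ r i0 j := by
    by_contra! h
    obtain ⟨i, j, hij⟩ := r3
    exact hij (hr.trans (hr.symm (h i)) (h j))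
  have key : ∀ (k : G) (π : Equiv.Perm ι) (θ : ι → T ≃* T), k • a = a →
      (∀ n i, e (MulAut.conjNormal k n) (π i) = θ i (e n i)) → cj k (NJ e (r i0)) ≤ NJ e (r (π i0)) := by
    rintro k π θ hk hπ _ ⟨_, ⟨n, rfl, hn⟩, rfl⟩
    refine ⟨MulAut.conjNormal k n, rfl, fun i hi => ?_⟩
    obtain ⟨i, rfl⟩ := π.surjective i
    rw [hπ, hn i fun h => hi ((r2 k π θ hk hπ _ _).1 h), map_one]
  have out : ∀ i, ¬ r i0 i → NJ e (r i) ≤ NJ e fun l => ¬ r i0 l := fun i hi =>
    NJ_mono e fun l h1 h2 => hi (hr.trans h2 (hr.symm h1))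
  refine hp G Ω a b hs N (NJ e (r i0)) (NJ e fun l => ¬ r i0 l) (NJ_le e _) (NJ_le e _) (NJ_norm e _) (NJ_norm e _)
    (NJ_cent e _) ?_ (fun h hh => ?_) ?_ ⟨res e (r i0) d, ⟨_, rfl, fun i hi => res_neg e d hi⟩, fun h => hi0 ?_,
      r1 d i0 da⟩
  · rintro _ ⟨l, rfl, hl⟩ _ ⟨l', rfl, hl'⟩ h
    have h1 : res e (r i0) (l * l') = l := e.injective (funext fun i => by
      by_cases hi : r i0 i
      · rw [res_pos e _ hi, map_mul, Pi.mul_apply, hl' i (not_not.2 hi), mul_one]
      · rw [res_neg e _ hi, hl i hi])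
    have h2 := r1 (l * l') i0 h
    rwa [h1] at h2
  · obtain ⟨π, θ, hπ⟩ := exists_perm_coord hT e (MulAut.conjNormal h)
    by_cases hc : r i0 (π i0)
    · exact Or.inl (cj_eq (mem_norm_of_cj_le ((key h π θ hh hπ).trans (NJ_mono e fun l hl => hr.trans hc hl))))
    · exact Or.inr ((key h π θ hh hπ).trans (out _ hc))
  · obtain ⟨k, π, θ, hk, hπ, rfl⟩ := exists_stabilizer_perm_coord hT hN e a i0 j
    exact ⟨k, hk, (key k π θ hk hπ).trans (out _ hj)⟩
  · rw [← res_pos e d (hr.refl i0), show res e (r i0) d = 1 from Subtype.ext h, map_one, Pi.one_apply]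

omit [Finite ι] in
/-- the stabiliser is one full diagonal -/
theorem lemD (hd : DiagP.{u,v}) (hs : Sub2 G a b) (hT : ¬ IsMulCommutative T) [N.Normal] (hN : IsMinNormal N)
    (e : N ≃* (ι → T)) (θ : ι → T ≃* T) (i0 : ι)
    (hD : ∀ n : N, n • a = a ↔ ∀ i j, θ i (e n i) = θ j (e n j)) : False := by
  have : IsPretransitive N Ω := isPretransitive_of_normal_of_ne_bot hN.ne_bot
  have hI : ∀ (n : N) (j : ι), n • a = a → e n j = 1 → n = 1 := fun n j hn h =>
    e.injective (funext fun i => (θ i).injective (by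
      rw [(hD n).1 hn i j, h, map_one, map_one, Pi.one_apply, map_one]))
  have hO : ∀ (j : ι) (t : T), ∃ n : N, n • a = a ∧ e n j = t := fun j t =>
    ⟨e.symm fun l => (θ l).symm (θ j t), (hD _).2 fun i l => by
      simp only [MulEquiv.apply_symm_apply], by simp only [MulEquiv.apply_symm_apply, MulEquiv.symm_apply_apply]⟩
  let ρ : N.subgroupOf (stabilizer G a) →* N :=
    ((stabilizer G a).subtype.comp (N.subgroupOf (stabilizer G a)).subtype).codRestrict N fun x => x.2
  have hψ : Function.Bijective ((coord e i0).comp ρ) := by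
    refine ⟨(injective_iff_map_eq_one _).2 fun x hx => ?_, fun t => ?_⟩
    · exact Subtype.ext (Subtype.ext (congrArg (fun n : N => (n : G)) (hI (ρ x) i0 x.1.2 hx)))
    · obtain ⟨n, hn, ht⟩ := hO i0 t
      exact ⟨⟨⟨n, hn⟩, n.2⟩, ht⟩
  let ψ := MulEquiv.ofBijective _ hψ
  have hsim : IsSimpleGroup (N.subgroupOf (stabilizer G a)) := ψ.isSimpleGroup
  have hmin : IsMinNormal (N.subgroupOf (stabilizer G a)) :=
    ⟨inferInstance, (nontrivial_iff_ne_bot _).1 inferInstance, fun K hK hle =>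
      ((hK.subgroupOf (N.subgroupOf (stabilizer G a))).eq_bot_or_eq_top).imp
        (fun h => (subgroupOf_eq_bot.1 h).eq_bot_of_le hle) fun h => le_antisymm hle (subgroupOf_eq_top.1 h)⟩
  obtain ⟨n, hn⟩ := exists_smul_eq N a b
  obtain ⟨d0, hd0, hd0'⟩ := hO i0 (e n i0)⁻¹
  have hb : (n * d0) • a = b := by rw [mul_smul, hd0, hn]
  have h0 : e (n * d0) i0 = 1 := by rw [map_mul, Pi.mul_apply, hd0', mul_inv_cancel]
  generalize n * d0 = m at hb h0
  obtain ⟨j, hj⟩ : ∃ j, e m j ≠ 1 := by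
    by_contra! h
    rw [show m = 1 from e.injective (by rw [map_one]; exact funext h), one_smul] at hb
    exact hs.ne hb.symm
  obtain ⟨z, hz, hz'⟩ := hO j (e m j)
  refine hd G Ω a b hs N hmin (fun hc => hT ⟨⟨fun x y => ψ.symm.injective ?_⟩⟩) z z.2 hz (fun h => hj ?_)
    fun t ht ha hb' => ?_
  · rw [map_mul, map_mul]
    exact hc.1.1 _ _
  · rw [← hz', show z = 1 from Subtype.ext h, map_one, Pi.one_apply]
  · have ta : (⟨t, ht⟩ : N) • a = a := ha
    have tb : (⟨t, ht⟩ : N) • b = b := hb'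
    change Commute ((⟨t, ht⟩ : N) : G) z
    generalize (⟨t, ht⟩ : N) = s at ta tb
    have h1 : m⁻¹ * s * m * s⁻¹ = 1 := hI _ i0
      (by rw [mul_smul, mul_smul, mul_smul, inv_smul_eq_iff.2 ta.symm, hb, tb, inv_smul_eq_iff, hb])
      (by simp only [map_mul, map_inv, Pi.mul_apply, Pi.inv_apply, h0, inv_one, one_mul, mul_one, mul_inv_cancel])
    have h2 : s * m = m * s := by
      rw [mul_inv_eq_one, mul_assoc, inv_mul_eq_iff_eq_mul] at h1
      exact h1
    have h3 : e s j * e m j = e m j * e s j := by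
      rw [← Pi.mul_apply, ← Pi.mul_apply, ← map_mul, ← map_mul, h2]
    have h4 : s * z * (z * s)⁻¹ = 1 := hI _ j
      (by
        have k : (z * s) • a = a := by rw [mul_smul, ta, hz]
        rw [mul_smul, inv_smul_eq_iff.2 k.symm, mul_smul, hz, ta])
      (by rw [map_mul, map_inv, map_mul, map_mul, Pi.mul_apply, Pi.inv_apply, Pi.mul_apply, Pi.mul_apply, hz', h3,
        mul_inv_cancel])
    exact congrArg Subtype.val (mul_inv_eq_one.1 h4)

end main

end PowH

open PowH in
theorem powP (hp : ProdP.{u,v}) (hd : DiagP.{u,v}) : PowP.{u,v} := by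
  intro G Ω _ _ _ _ _ _ a b hs N hN hab d hdN d1 da
  have := hN.normal
  by_contra hns
  obtain ⟨T, _, m, hsT, hT, _, hm, ⟨e⟩⟩ := exists_simple_pi_of_isMinNormal hN hab
  have d1' : (⟨d, hdN⟩ : N) ≠ 1 := fun h => d1 (congrArg Subtype.val h)
  have da' : (⟨d, hdN⟩ : N) • a = a := da
  rcases onan_scott_dichotomy hT hN e a with ⟨K, -, hK⟩ | ⟨k, c, θ0, -, -, hD⟩
  · refine lemP hp hs hT hN e eq_equivalence (fun n i hn => (hK _).2 fun l => ?_)
      (fun k π θ _ _ i j => π.injective.eq_iff.symm) ?_ d1' da'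
    · by_cases h : i = l
      · rw [res_pos e n h]
        exact (hK n).1 hn l
      · rw [res_neg e n h]
        exact one_mem _
    · by_contra! h
      refine hns (MulEquiv.ofBijective (coord e ⟨0, hm⟩) ⟨fun x y hxy => e.injective (funext fun i => ?_),
        coord_surjective e _⟩).isSimpleGroup
      rw [h i ⟨0, hm⟩]
      exact hxy
  · by_cases hall : ∀ i j, c i = c j
    · exact lemD hd hs hT hN e θ0 ⟨0, hm⟩ fun n => (hD n).trans
        ⟨fun h i j => h i j (hall i j), fun h i j _ => h i j⟩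
    have hc : ∀ i j, c i = c j ↔ ∀ n : N, n • a = a → (e n i = 1 ↔ e n j = 1) := by
      intro i j
      refine ⟨fun h n hn => ?_, fun h => ?_⟩
      · rw [← map_eq_one_iff _ (θ0 i).injective, (hD n).1 hn i j h, map_eq_one_iff _ (θ0 j).injective]
      · by_contra hij
        obtain ⟨t, ht⟩ := exists_ne (1 : T)
        have h1 := (h (e.symm fun l => if c l = c i then (θ0 l).symm t else 1) ((hD _).2 fun l l' hl => by
          rw [MulEquiv.apply_symm_apply]
          by_cases h2 : c l = c i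
          · rw [if_pos h2, if_pos (hl ▸ h2), MulEquiv.apply_symm_apply, MulEquiv.apply_symm_apply]
          · rw [if_neg h2, if_neg (hl ▸ h2), map_one, map_one])).2
            (by rw [MulEquiv.apply_symm_apply, if_neg fun h2 => hij h2.symm])
        rw [MulEquiv.apply_symm_apply, if_pos rfl, map_eq_one_iff _ (θ0 i).symm.injective] at h1
        exact ht h1
    refine lemP hp hs hT hN e (r := fun i j => c i = c j) ⟨fun _ => rfl, Eq.symm, Eq.trans⟩
      (fun n i hn => (hD _).2 fun l l' hl => ?_) (fun k π θ hk hπ i j => ?_) (by push Not at hall; exact hall) d1' da'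
    · by_cases h : c i = c l
      · rw [res_pos e (J := fun j => c i = c j) n h, res_pos e (J := fun j => c i = c j) n (h.trans hl)]
        exact (hD n).1 hn l l' hl
      · rw [res_neg e (J := fun j => c i = c j) n h,
          res_neg e (J := fun j => c i = c j) (i := l') n fun h' => h (h'.trans hl.symm), map_one, map_one]
    · rw [hc, hc]
      constructor
      · intro h n hn
        obtain ⟨n, rfl⟩ := (MulAut.conjNormal k : N ≃* N).surjective n
        rw [hπ, hπ, map_eq_one_iff _ (θ _).injective, map_eq_one_iff _ (θ _).injective]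
        exact h n ((conjNormal_smul_eq hk n).1 hn)
      · intro h n hn
        have := h _ ((conjNormal_smul_eq hk n).2 hn)
        rwa [hπ, hπ, map_eq_one_iff _ (θ _).injective, map_eq_one_iff _ (θ _).injective] at this

end CL.DT
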