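/-
S3617: the product case and the diagonal case.
-/
import Cfsg.Agent.DT.Defs

set_option autoImplicit false

open Cfsg Subgroup CL.Grp CL.Even MulAction CL.Perm Function

namespace CL.DT

universe u v

theorem prodP : ProdP.{u, v} := by
  intro G Ω _ _ _ _ _ _ a b hs N L L' _ LN LN' nL nL' cL sp dich ⟨h0, h0a, h0L⟩ ⟨l, hl, l1, la⟩
  have tr : IsPretransitive N Ω := isPretransitive_of_normal_of_ne_bot fun e => l1 (mem_bot.1 (e.le (LN hl)))
  have spb : ∀ l ∈ L, ∀ l' ∈ L', (l * l') • b = b → l • b = b ∧ l' • b = b := fun l hl l' hl' k => by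
    obtain ⟨⟨n, hn⟩, e⟩ := tr.exists_smul_eq a b
    replace e : n • a = b := e
    have j := sp _ (conj_mem' (nL hn) hl) _ (conj_mem' (nL' hn) hl') (by
      rw [show n⁻¹ * l * n * (n⁻¹ * l' * n) = n⁻¹ * (l * l') * n by group, mul_smul, mul_smul, e, k, ← e, inv_smul_smul])
    rw [mul_smul, mul_smul, e, inv_smul_eq_iff, e] at j
    exact ⟨j, smul_left_cancel l (by rw [← mul_smul, k, j])⟩
  obtain ⟨k, hk, ka, y0, y0a, kd⟩ : ∃ k ∈ L, k • a = a ∧ ∃ y : G, y • a = a ∧ k • y • b ≠ y • b := by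
    obtain ⟨_, ⟨g, m, hm, rfl⟩, sa, sb⟩ := move (S := {s | ∃ g : G, ∃ m ∈ L, s = g * m * g⁻¹}) hs.ne
      (by rintro _ ⟨g, m, hm, rfl⟩ x; exact ⟨x * g, m, hm, by group⟩) ⟨1, l, hl, by group⟩ l1 la
    obtain ⟨⟨n, hn⟩, e⟩ := tr.exists_smul_eq a (g⁻¹ • a)
    replace e : n • a = g⁻¹ • a := e
    have ha : (g * n)⁻¹ • a = a := by rw [inv_smul_eq_iff, mul_smul, e, smul_inv_smul]
    refine ⟨n⁻¹ * m * n, conj_mem' (nL hn) hm, ?_, (g * n)⁻¹, ha, fun j => sb ?_⟩
    · rw [mul_smul, mul_smul, e, inv_smul_eq_iff, e, eq_inv_smul_iff, smul_smul, smul_smul, sa]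
    · rw [smul_smul, eq_inv_smul_iff, smul_smul] at j
      rwa [show g * n * (n⁻¹ * m * n * (g * n)⁻¹) = g * m * g⁻¹ by group] at j
  have all : ∀ y : G, y • a = a → ∃ k' ∈ L, k' • a = a ∧ k' • y • b ≠ y • b := fun y ya => by
    by_cases q : y • b = y0 • b
    · exact ⟨k, hk, ka, q ▸ kd⟩
    have ky : (k * y0) • a = a := by rw [mul_smul, y0a, ka]
    obtain ⟨w, wa, w1, w2⟩ := hs.ex y0a ky y0a ya (by rw [mul_smul]; exact kd.symm) (Ne.symm q)
    have eN : w * k * w⁻¹ ∈ N := (inferInstance : N.Normal).conj_mem k (LN hk) w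
    have wa' : w⁻¹ • a = a := inv_smul_eq_iff.2 wa.symm
    have ea : (w * k * w⁻¹) • a = a := by rw [mul_smul, mul_smul, wa', ka, wa]
    have ed : (w * k * w⁻¹) • y0 • b = y • b := by
      rw [mul_smul, mul_smul, inv_smul_eq_iff.2 w1.symm, ← mul_smul k, w2]
    generalize w * k * w⁻¹ = e at eN ea ed
    refine ⟨e * k * e⁻¹, conj_mem (nL eN) hk, by rw [mul_smul, mul_smul, inv_smul_eq_iff.2 ea.symm, ka, ea], fun j => kd ?_⟩
    rwa [← ed, mul_smul, mul_smul, inv_smul_smul, smul_left_cancel_iff] at j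
  obtain ⟨k, hk, ka, kb⟩ := all 1 (one_smul _ _)
  rw [one_smul] at kb
  have h0a' : h0⁻¹ • a = a := inv_smul_eq_iff.2 h0a.symm
  obtain ⟨k1, hk1, k1a, k1b⟩ := all h0⁻¹ h0a'
  have hk' := h0L (conj_mem_cj h0 hk1)
  have ka' : (h0 * k1 * h0⁻¹) • a = a := by rw [mul_smul, mul_smul, h0a', k1a, h0a]
  have kb' : (h0 * k1 * h0⁻¹) • b ≠ b := fun j => k1b (by rwa [mul_smul, mul_smul, ← eq_inv_smul_iff] at j)
  generalize h0 * k1 * h0⁻¹ = k' at hk' ka' kb'
  obtain ⟨w, wa, w1, w2⟩ := hs.ex (one_smul G a) ka (one_smul G a) (show (k * k') • a = a by rw [mul_smul, ka', ka])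
    (by rw [one_smul]; exact kb.symm) (by rw [one_smul]; exact fun j => kb (spb k hk k' hk' j.symm).1)
  rw [one_smul] at w1
  have hm := conj_mem_cj w hk
  have mb : ((w * k * w⁻¹)⁻¹ * (k * k')) • b = b := by
    rw [mul_smul, inv_smul_eq_iff, ← w2, mul_smul, mul_smul, inv_smul_eq_iff.2 w1.symm]
  generalize w * k * w⁻¹ = m at hm mb
  rcases dich w wa with e | e
  · rw [e] at hm
    exact kb' (spb _ (mul_mem (inv_mem hm) hk) _ hk' (by rwa [mul_assoc])).2
  · refine kb (spb _ hk _ (mul_mem (inv_mem (e hm)) hk') ?_).1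
    rwa [← mul_assoc, ← cL hk _ (inv_mem (e hm)), mul_assoc]

theorem diagP (hc : CenP.{v}) : DiagP.{u, v} := by
  intro G Ω _ _ _ _ _ _ a b hs M nM mn nc z hz za z1 k
  let f := (toPermHom (stabilizer G a) (orbit (stabilizer G a) b)).rangeRestrict
  have sj : Surjective f := MonoidHom.rangeRestrict_surjective _
  have ap : ∀ (n : stabilizer G a) (d : orbit (stabilizer G a) b), f n • d = n • d := fun _ _ => rfl
  have := mn.normal
  have inj : ∀ s ∈ M.subgroupOf (stabilizer G a), f s = 1 → s = 1 := by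
    rcases mn.min (f.ker ⊓ M.subgroupOf (stabilizer G a)) inferInstance inf_le_right with j | j
    · exact fun s h1 h2 => mem_bot.1 (j.le ⟨h2, h1⟩)
    · obtain ⟨s, h1, h2, h3⟩ := move (S := M) hs.ne (fun s h g => nM.conj_mem s h g) hz z1 za
      have : f ⟨s, h2⟩ = 1 := (j.ge h1).1
      have e := ap ⟨s, h2⟩ ⟨b, mem_orbit_self b⟩
      rw [this, one_smul] at e
      exact absurd (congrArg Subtype.val e).symm h3
  refine hc (toPermHom (stabilizer G a) (orbit (stabilizer G a) b)).range (orbit (stabilizer G a) b)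
    (is_two_pretransitive_iff.2 fun {a b c d} j j' => let ⟨g, i⟩ := is_two_pretransitive_iff.1 hs.two j j'; ⟨f g, i⟩)
    ((M.subgroupOf (stabilizer G a)).map f) ⟨mn.normal.map f sj, fun j => z1 (congrArg Subtype.val
      (inj ⟨z, za⟩ hz (mem_bot.1 (j.le (mem_map_of_mem f hz))))), fun X nX l => ?_⟩
    (fun c => nc ⟨⟨fun x y => Subtype.ext (mul_inv_eq_one.1 (inj _ (mul_mem (mul_mem x.2 y.2)
      (inv_mem (mul_mem y.2 x.2))) ?_))⟩⟩) ⟨b, mem_orbit_self b⟩ (f ⟨z, za⟩) (mem_map_of_mem f hz)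
    (fun j => z1 (congrArg Subtype.val (inj ⟨z, za⟩ hz j))) ?_
  · rcases mn.min (X.comap f ⊓ M.subgroupOf (stabilizer G a)) inferInstance inf_le_right with j | j
    · refine .inl ((eq_bot_iff_forall _).2 fun x hx => ?_)
      obtain ⟨s, h1, rfl⟩ := l hx
      rw [mem_bot.1 (j.le ⟨hx, h1⟩), map_one]
    · exact .inr (le_antisymm l (map_le_iff_le_comap.2 (j.ge.trans inf_le_left)))
  · rw [map_mul, map_inv, mul_inv_eq_one, coe_mul, coe_mul, map_mul, map_mul]
    exact congrArg Subtype.val (c.is_comm.comm ⟨_, mem_map_of_mem f x.2⟩ ⟨_, mem_map_of_mem f y.2⟩)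
  · rintro _ ⟨s, h1, rfl⟩ j
    exact Commute.map (Subtype.ext (k s h1 s.2 (congrArg Subtype.val j)).eq : Commute s ⟨z, za⟩) f

end CL.DT
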