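/-
S3617: two minimal normal subgroups.
-/
import Cfsg.Agent.DT.Defs
import Cfsg.Agent.Perm.PrimCentral

set_option autoImplicit false

open Cfsg Subgroup CL.Grp CL.Even MulAction CL.Perm Function

namespace CL.DT

universe u v

theorem twoP (hd : DiagP.{u, v}) : TwoP.{u, v} := by
  intro G Ω _ _ _ _ _ _ a b hs N mn nc
  by_contra C0
  have nN := mn.normal
  have trN : IsPretransitive N Ω := isPretransitive_of_normal_of_ne_bot mn.ne_bot
  have trC : IsPretransitive 𝒞(N) Ω := isPretransitive_of_normal_of_ne_bot C0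
  have cm : ∀ {n c : G}, n ∈ N → c ∈ 𝒞(N) → n * c = c * n := fun hn hc => hc _ hn
  have fN : ∀ n ∈ N, n • a = a → n = 1 := fun n hn k => eq_one_of_commute_of_fix 𝒞(N) (fun c hc => (cm hn hc).symm) k
  have fC : ∀ c ∈ 𝒞(N), c • a = a → c = 1 := fun c hc k => eq_one_of_commute_of_fix N (fun n hn => cm hn hc) k
  have NC : ∀ n ∈ N, n ∈ 𝒞(N) → n = 1 := by
    rcases mn.min (N ⊓ 𝒞(N)) inferInstance inf_le_left with j | j
    · exact fun n h1 h2 => mem_bot.1 (j.le ⟨h1, h2⟩)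
    · exact absurd ⟨⟨fun x y => Subtype.ext (cm x.2 (j.ge y.2).2)⟩⟩ nc
  have E : ∀ n ∈ N, ∃ c ∈ 𝒞(N), (n * c) • a = a := fun n _ => by
    obtain ⟨⟨c, hc⟩, e⟩ := trC.exists_smul_eq a (n⁻¹ • a)
    exact ⟨c, hc, by rw [mul_smul, show c • a = n⁻¹ • a from e, smul_inv_smul]⟩
  have dec : ∀ {x : G}, x ∈ N ⊔ 𝒞(N) → ∃ n ∈ N, ∃ c ∈ 𝒞(N), n * c = x := fun hx =>
    (mem_sup_nl le_normalizer_of_normal).1 hx
  have mul : ∀ {n c n' c' : G}, c ∈ 𝒞(N) → n' ∈ N → n * c * (n' * c') = n * n' * (c * c') := fun {n c n' c'} hc hn => by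
    rw [mul_assoc, ← mul_assoc c, ← cm hn hc, mul_assoc, mul_assoc]
  obtain ⟨⟨n, hn⟩, e⟩ := trN.exists_smul_eq a b
  replace e : n • a = b := e
  have n1 : n ≠ 1 := fun j => hs.ne (by rw [← e, j, one_smul])
  obtain ⟨c, hc, za⟩ := E n hn
  have z1 : n * c ≠ 1 := fun j => n1 (NC n hn (eq_inv_of_mul_eq_one_left j ▸ inv_mem hc))
  refine hd G Ω a b hs (N ⊔ 𝒞(N)) ⟨inferInstance, fun j => z1 (congrArg Subtype.val (mem_bot.1 (j.le
    (show (⟨n * c, za⟩ : stabilizer G a) ∈ _ from mul_mem_sup hn hc)))), fun X nX l => ?_⟩ (fun k => nc ⟨⟨fun x y => ?_⟩⟩)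
    (n * c) (mul_mem_sup hn hc) za z1 fun t ht ta tb => ?_
  · refine or_iff_not_imp_left.2 fun X0 => le_antisymm l ?_
    let Y : Subgroup G := N ⊓ (X.map (stabilizer G a).subtype ⊔ 𝒞(N))
    have nY : Y.Normal := by
      refine normalizer_eq_top_iff.1 (top_le_iff.1 (le_norm_inf le_normalizer_of_normal fun g _ => ?_))
      obtain ⟨⟨c0, hc0⟩, e0⟩ := trC.exists_smul_eq a (g • a)
      have ha : (c0⁻¹ * g) • a = a := by rw [mul_smul, inv_smul_eq_iff]; exact e0.symm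
      rw [show g = c0 * (c0⁻¹ * g) by group]
      refine mul_mem (le_normalizer (mem_sup_right hc0)) (le_norm_sup (L := stabilizer G a) (le_norm_of_cj_le ?_)
        le_normalizer_of_normal ha)
      rintro h hh _ ⟨_, ⟨x, hx, rfl⟩, rfl⟩
      exact ⟨_, nX.conj_mem x hx ⟨h, hh⟩, rfl⟩
    rcases mn.min Y nY inf_le_left with j | j
    · refine absurd ((eq_bot_iff_forall _).2 fun x hx => ?_) X0
      obtain ⟨m, hm, d, hd, e1⟩ := dec (l hx)
      have m1 : m = 1 := mem_bot.1 (j.le ⟨hm, by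
        rw [eq_mul_inv_of_mul_eq e1]; exact mul_mem_sup (mem_map_of_mem _ hx) (inv_mem hd)⟩)
      rw [m1, one_mul] at e1
      exact Subtype.ext (e1.symm.trans (fC d hd (e1 ▸ x.2)))
    · intro x hx
      obtain ⟨m, hm, d, hd, e1⟩ := dec hx
      obtain ⟨_, ⟨y, hy, rfl⟩, d', hd', e2⟩ := (mem_sup_nr le_normalizer_of_normal).1 (j.ge hm).2
      have e3 : (x : G) = y * (d' * d) := e1.symm.trans (by rw [← e2, mul_assoc]; rfl)
      have := fC _ (mul_mem hd' hd) (by rw [← inv_mul_eq_iff_eq_mul.2 e3]; exact (y⁻¹ * x).2)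
      rw [this, mul_one] at e3
      rwa [Subtype.ext e3]
  · obtain ⟨c1, h1, a1⟩ := E x x.2
    obtain ⟨c2, h2, a2⟩ := E y y.2
    have q : (x : G) * c1 * (y * c2) = y * c2 * (x * c1) := congrArg (fun w => ((w : stabilizer G a) : G))
      (congrArg Subtype.val (k.is_comm.comm ⟨⟨_, a1⟩, mul_mem_sup x.2 h1⟩ ⟨⟨_, a2⟩, mul_mem_sup y.2 h2⟩))
    rw [mul h1 y.2, mul h2 x.2] at q
    refine Subtype.ext (inv_mul_eq_one.1 (NC _ (mul_mem (inv_mem (x * y).2) (y * x).2) ?_))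
    rw [show ((x * y : N) : G)⁻¹ * (y * x : N) = c1 * c2 * (c2 * c1)⁻¹ by
      rw [inv_mul_eq_iff_eq_mul, ← mul_assoc, eq_mul_inv_iff_mul_eq]; exact q.symm]
    exact mul_mem (mul_mem h1 h2) (inv_mem (mul_mem h2 h1))
  · obtain ⟨m, hm, d, hd, rfl⟩ := dec ht
    have f1 : (n⁻¹ * (m * d) * n) • a = a := by rw [mul_smul, mul_smul, e, tb, ← e, inv_smul_smul]
    have mn' : m * n = n * m := by
      have := fN (n⁻¹ * m * n * m⁻¹) (mul_mem (mul_mem (mul_mem (inv_mem hn) hm) hn) (inv_mem hm)) (by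
        rw [show n⁻¹ * m * n * m⁻¹ = n⁻¹ * (m * d) * n * (m * d)⁻¹ by
          rw [mul_assoc n⁻¹ (m * d), mul_assoc m d, ← cm hn hd]; group, mul_smul, inv_smul_eq_iff.2 ta.symm, f1])
      rwa [mul_inv_eq_one, mul_assoc, inv_mul_eq_iff_eq_mul] at this
    have := fC ((c * d)⁻¹ * (d * c)) (mul_mem (inv_mem (mul_mem hc hd)) (mul_mem hd hc)) (by
      rw [show (c * d)⁻¹ * (d * c) = (n * c * (m * d))⁻¹ * (m * d * (n * c)) by rw [mul hc hm, mul hd hn, mn']; group,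
        mul_smul, mul_smul, za, ta, inv_smul_eq_iff, mul_smul, ta, za])
    rw [inv_mul_eq_one] at this
    show m * d * (n * c) = n * c * (m * d)
    rw [mul hc hm, mul hd hn, mn', this]

end CL.DT
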